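import Mathlib

/-!
The model of the projective plane of order 4 on a hyperoval (six points) and the fifteen
fixed-point-free involutions of the hyperoval.
-/

set_option autoImplicit false

namespace Cfsg.Agent.Lib.PlaneFour

/-- The fifteen fixed-point-free involutions of six letters. -/
def pairing : Fin 15 → Fin 6 → Fin 6 :=
  ![![1, 0, 3, 2, 5, 4],
    ![1, 0, 4, 5, 2, 3],
    ![1, 0, 5, 4, 3, 2],
    ![2, 3, 0, 1, 5, 4],
    ![2, 4, 0, 5, 1, 3],
    ![2, 5, 0, 4, 3, 1],
    ![3, 2, 1, 0, 5, 4],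
    ![3, 4, 5, 0, 1, 2],
    ![3, 5, 4, 0, 2, 1],
    ![4, 2, 1, 5, 0, 3],
    ![4, 3, 5, 1, 0, 2],
    ![4, 5, 3, 2, 0, 1],
    ![5, 2, 1, 4, 3, 0],
    ![5, 3, 4, 1, 2, 0],
    ![5, 4, 3, 2, 1, 0]]

/-- The model's point of the hyperoval. -/
def ovalPt (a : Fin 6) : Fin 21 := ⟨a.1, by omega⟩

/-- The model's point off the hyperoval. -/
def offPt (j : Fin 15) : Fin 21 := ⟨j.1 + 6, by omega⟩

/-- The twenty-one lines. -/
def modelLines : Finset (Finset (Fin 21)) :=
  {{0, 1, 6, 7, 8},
    {0, 2, 9, 10, 11},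
    {0, 3, 12, 13, 14},
    {0, 4, 15, 16, 17},
    {0, 5, 18, 19, 20},
    {1, 2, 12, 15, 18},
    {1, 3, 9, 16, 19},
    {1, 4, 10, 13, 20},
    {1, 5, 11, 14, 17},
    {2, 3, 6, 17, 20},
    {2, 4, 7, 14, 19},
    {2, 5, 8, 13, 16},
    {3, 4, 8, 11, 18},
    {3, 5, 7, 10, 15},
    {4, 5, 6, 9, 12},
    {6, 10, 14, 16, 18},
    {6, 11, 13, 15, 19},
    {7, 9, 13, 17, 18},
    {7, 11, 12, 16, 20},
    {8, 9, 14, 15, 20},
    {8, 10, 12, 17, 19}}

theorem card_modelLines : modelLines.card = 21 := by decide +kernel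

theorem pairing_invol : ∀ j a, pairing j (pairing j a) = a ∧ pairing j a ≠ a := by decide +kernel

theorem pairing_surj : ∀ f : Fin 15, ∀ g : Fin 15, (∀ a, pairing f a = pairing g a) → f = g := by
  decide +kernel

theorem exists_pairing : ∀ p : Fin 6, ∀ q : Fin 6, ∀ r : Fin 6, ∀ s : Fin 6, ∀ t : Fin 6, ∀ u : Fin 6,
    [p, q, r, s, t, u].Nodup →
    ∃ j, pairing j p = q ∧ pairing j r = s ∧ pairing j t = u := by
  decide +kernel

theorem secant_mem : ∀ a b : Fin 6, a ≠ b →
    ({ovalPt a, ovalPt b} ∪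
      (Finset.univ.filter fun j => pairing j a = b).image offPt) ∈ modelLines := by
  decide +kernel

theorem card_secant : ∀ a b : Fin 6, a ≠ b →
    ({ovalPt a, ovalPt b} ∪
      (Finset.univ.filter fun j => pairing j a = b).image offPt).card = 5 := by
  decide +kernel

theorem secant_filter : ∀ a b : Fin 6, a ≠ b → ∀ k : Fin 15, pairing k a ≠ b →
    (modelLines.filter fun l => ovalPt a ∈ l ∧ ovalPt b ∈ l ∧ offPt k ∈ l) = ∅ := by
  decide +kernel

theorem pairing_of_mem (l : Finset (Fin 21)) (hl : l ∈ modelLines) (a b : Fin 6) (hab : a ≠ b)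
    (ha : ovalPt a ∈ l) (hb : ovalPt b ∈ l) (k : Fin 15) (hk : offPt k ∈ l) : pairing k a = b := by
  by_contra hne
  have h : l ∈ modelLines.filter fun m => ovalPt a ∈ m ∧ ovalPt b ∈ m ∧ offPt k ∈ m :=
    Finset.mem_filter.2 ⟨hl, ha, hb, hk⟩
  rw [secant_filter a b hab k hne] at h
  exact absurd h (Finset.notMem_empty l)

/-- Two pairings with no pair in common. -/
def apart (i j : Fin 15) : Bool := decide (∀ a, pairing i a ≠ pairing j a)

theorem external_mem_sorted : ∀ i j : Fin 15, i < j → apart i j = true → ∀ k, j < k →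
    apart i k = true → apart j k = true → ∀ l, k < l → apart i l = true → apart j l = true →
    apart k l = true → ∀ m, l < m → apart i m = true → apart j m = true → apart k m = true →
    apart l m = true →
    ({i, j, k, l, m} : Finset (Fin 15)).image offPt ∈ modelLines := by
  decide +kernel

theorem external_mem (T : Finset (Fin 15)) (hT : T.card = 5)
    (h : ∀ i ∈ T, ∀ j ∈ T, ∀ a, pairing i a = pairing j a → i = j) :
    T.image offPt ∈ modelLines := by
  let e := T.orderEmbOfFin hT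
  have hlt : ∀ x y : Fin 5, x < y → e x < e y := fun x y hxy => e.strictMono hxy
  have hap : ∀ x y : Fin 5, x < y → apart (e x) (e y) = true := by
    intro x y hxy
    simp only [apart, decide_eq_true_eq]
    intro a ha
    exact (hlt x y hxy).ne (h _ (T.orderEmbOfFin_mem hT x) _ (T.orderEmbOfFin_mem hT y) a ha)
  have key := external_mem_sorted (e 0) (e 1) (hlt _ _ (by decide)) (hap _ _ (by decide))
    (e 2) (hlt _ _ (by decide)) (hap _ _ (by decide)) (hap _ _ (by decide))
    (e 3) (hlt _ _ (by decide)) (hap _ _ (by decide)) (hap _ _ (by decide)) (hap _ _ (by decide))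
    (e 4) (hlt _ _ (by decide)) (hap _ _ (by decide)) (hap _ _ (by decide)) (hap _ _ (by decide))
    (hap _ _ (by decide))
  have hT' : ({e 0, e 1, e 2, e 3, e 4} : Finset (Fin 15)) = T := by
    rw [← Finset.image_orderEmbOfFin_univ T hT]
    ext x
    simp only [Finset.mem_insert, Finset.mem_singleton, Finset.mem_image, Finset.mem_univ,
      true_and, Fin.exists_fin_succ, Fin.exists_fin_one]
    simp [e, eq_comm]
  rwa [hT'] at key

end Cfsg.Agent.Lib.PlaneFour
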