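import Mathlib
import Cfsg.Prelude.Def_Sporadic_a
import Cfsg.Agent.Lib.Design.Count
import Cfsg.Agent.Lib.PlaneFour.Model

/-!
Projective planes of order 4 (Steiner systems S(2, 5, 21)): every independent 4-set lies in a unique
hyperoval, and every bijection of a hyperoval with six letters extends uniquely to an isomorphism
with the model.
-/

set_option autoImplicit false

namespace Cfsg.Agent.Lib.PlaneFour

open Finset

variable {α : Type*} [Fintype α] [DecidableEq α]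

/-- No line meets `S` in more than two points. -/
def Indep (L : Set (Finset α)) (S : Finset α) : Prop := ∀ l ∈ L, (l ∩ S).card ≤ 2

/-- A projective plane of order 4. -/
structure IsPlane (L : Set (Finset α)) : Prop where
  card_pts : Fintype.card α = 21
  steiner : Cfsg.IsSteinerSystem 2 5 L

variable {L : Set (Finset α)}

theorem IsPlane.exists_line (h : IsPlane L) {a b : α} (hab : a ≠ b) : ∃ l ∈ L, a ∈ l ∧ b ∈ l := by
  obtain ⟨l, ⟨hl, hs⟩, -⟩ := h.steiner.2 {a, b} (card_pair hab)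
  exact ⟨l, hl, hs (by simp), hs (by simp)⟩

theorem IsPlane.line_eq (h : IsPlane L) {a b : α} (hab : a ≠ b) {l m : Finset α} (hl : l ∈ L)
    (hm : m ∈ L) (hal : a ∈ l) (hbl : b ∈ l) (ham : a ∈ m) (hbm : b ∈ m) : l = m :=
  (h.steiner.2 {a, b} (card_pair hab)).unique ⟨hl, by simp [insert_subset_iff, hal, hbl]⟩
    ⟨hm, by simp [insert_subset_iff, ham, hbm]⟩

theorem IsPlane.inter_card_le (h : IsPlane L) {l m : Finset α} (hl : l ∈ L) (hm : m ∈ L)
    (hne : l ≠ m) : (l ∩ m).card ≤ 1 := by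
  rw [card_le_one]
  intro a ha b hb
  rw [mem_inter] at ha hb
  by_contra hab
  exact hne (h.line_eq hab hl hm ha.1 hb.1 ha.2 hb.2)

/-- The lines as a finset. -/
theorem IsPlane.exists_finset (h : IsPlane L) :
    ∃ B : Finset (Finset α), (∀ l, l ∈ B ↔ l ∈ L) ∧ B.card = 21 ∧
      ∀ a, (B.filter fun l => a ∈ l).card = 5 := by
  classical
  obtain ⟨B, rfl⟩ : ∃ B : Finset (Finset α), ↑B = L := (Set.toFinite L).exists_finset_coe
  refine ⟨B, fun _ => Iff.rfl, ?_, fun a => ?_⟩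
  · have := Design.card_blocks_through h.steiner (S := ∅) (by simp)
    simp [h.card_pts, Nat.choose_two_right] at this
    omega
  · have := Design.card_blocks_through h.steiner (S := {a}) (by simp)
    simp [h.card_pts] at this
    omega

theorem IsPlane.meet (h : IsPlane L) {l m : Finset α} (hl : l ∈ L) (hm : m ∈ L) (hne : l ≠ m) :
    ∃ a, a ∈ l ∧ a ∈ m := by
  classical
  obtain ⟨B, hB, -, hB5⟩ := h.exists_finset
  obtain ⟨p, hpm, hpl⟩ : ∃ p ∈ m, p ∉ l := by
    by_contra hno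
    push Not at hno
    exact hne (eq_of_subset_of_card_le hno (by rw [h.steiner.1 _ hl, h.steiner.1 _ hm])).symm
  have : ∀ q ∈ l, ∃ n ∈ L, p ∈ n ∧ q ∈ n := fun q hq => h.exists_line (fun e => hpl (e ▸ hq))
  choose! f hfL hfp hfq using this
  have hinj : Set.InjOn f l := by
    intro q hq q' hq' e
    by_contra hqq
    have := h.line_eq hqq (hfL q hq) hl (hfq q hq) (e ▸ hfq q' hq') hq hq'
    exact hpl (this ▸ hfp q hq)
  have himg : l.image f = B.filter fun n => p ∈ n := by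
    refine eq_of_subset_of_card_le ?_ ?_
    · intro n hn
      obtain ⟨q, hq, rfl⟩ := mem_image.1 hn
      exact mem_filter.2 ⟨(hB _).2 (hfL q hq), hfp q hq⟩
    · rw [hB5, card_image_of_injOn hinj, h.steiner.1 _ hl]
  have hmem : m ∈ l.image f := himg ▸ mem_filter.2 ⟨(hB _).2 hm, hpm⟩
  obtain ⟨q, hq, e⟩ := mem_image.1 hmem
  exact ⟨q, hq, e ▸ hfq q hq⟩

theorem IsPlane.inter_card (h : IsPlane L) {l m : Finset α} (hl : l ∈ L) (hm : m ∈ L)
    (hne : l ≠ m) : (l ∩ m).card = 1 := by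
  obtain ⟨a, ha, ha'⟩ := h.meet hl hm hne
  have h1 : 0 < (l ∩ m).card := card_pos.2 ⟨a, mem_inter.2 ⟨ha, ha'⟩⟩
  have := h.inter_card_le hl hm hne
  omega

theorem Indep.pair {S : Finset α} (hS : Indep L S) {l : Finset α} (hl : l ∈ L) {a b c : α}
    (ha : a ∈ S) (hb : b ∈ S) (hc : c ∈ S) (hab : a ≠ b) (hal : a ∈ l) (hbl : b ∈ l) (hcl : c ∈ l) :
    c = a ∨ c = b := by
  by_contra hc'
  push Not at hc'
  have h3 : ({a, b, c} : Finset α).card = 3 := by
    rw [card_insert_of_notMem (by simp [hab, Ne.symm hc'.1]), card_pair (Ne.symm hc'.2)]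
  have : ({a, b, c} : Finset α) ⊆ l ∩ S := by
    simp [insert_subset_iff, ha, hb, hc, hal, hbl, hcl]
  have := card_le_card this
  have := hS l hl
  omega

theorem Indep.inter_eq {S : Finset α} (hS : Indep L S) {l : Finset α} (hl : l ∈ L) {a b : α}
    (ha : a ∈ S) (hb : b ∈ S) (hab : a ≠ b) (hal : a ∈ l) (hbl : b ∈ l) : l ∩ S = {a, b} := by
  refine subset_antisymm (fun c hc => ?_) (by simp [insert_subset_iff, ha, hb, hal, hbl])
  rw [mem_inter] at hc
  rcases hS.pair hl ha hb hc.2 hab hal hbl hc.1 with rfl | rfl <;> simp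

theorem Indep.mono {S T : Finset α} (hS : Indep L S) (hT : T ⊆ S) : Indep L T :=
  fun l hl => (card_le_card (inter_subset_inter_left hT)).trans (hS l hl)

/-- An independent 4-set lies in exactly one hyperoval. -/
theorem IsPlane.existsUnique_oval (h : IsPlane L) {S : Finset α} (hS : S.card = 4)
    (hI : Indep L S) : ∃! H : Finset α, (H.card = 6 ∧ Indep L H) ∧ S ⊆ H := by
  classical
  obtain ⟨a, b, c, d, hab, hac, had, hbc, hbd, hcd, rfl⟩ := card_eq_four.1 hS
  obtain ⟨l₁, hl₁, ha1, hb1⟩ := h.exists_line hab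
  obtain ⟨l₂, hl₂, ha2, hc2⟩ := h.exists_line hac
  obtain ⟨l₃, hl₃, ha3, hd3⟩ := h.exists_line had
  obtain ⟨l₄, hl₄, hb4, hc4⟩ := h.exists_line hbc
  obtain ⟨l₅, hl₅, hb5, hd5⟩ := h.exists_line hbd
  obtain ⟨l₆, hl₆, hc6, hd6⟩ := h.exists_line hcd
  set S : Finset α := {a, b, c, d}
  have maS : a ∈ S := by simp [S]
  have mbS : b ∈ S := by simp [S]
  have mcS : c ∈ S := by simp [S]
  have mdS : d ∈ S := by simp [S]
  -- two secants with a common end meet only there
  have adj : ∀ {l m : Finset α} {p q r : α}, l ∈ L → m ∈ L → p ∈ S → q ∈ S → r ∈ S → p ≠ q → p ≠ r →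
      q ≠ r → p ∈ l → q ∈ l → p ∈ m → r ∈ m → Disjoint (l \ S) (m \ S) := by
    intro l m p q r hl hm hp hq hr hpq hpr hqr hpl hql hpm hrm
    rw [disjoint_left]
    intro x hx hx'
    rw [mem_sdiff] at hx hx'
    have hne : l ≠ m := by
      rintro rfl
      rcases hI.pair hl hp hq hr hpq hpl hql hrm with e | e
      · exact hpr e.symm
      · exact hqr e.symm
    exact hne (h.line_eq (fun e : x = p => hx.2 (e ▸ hp)) hl hm hx.1 hpl hx'.1 hpm)
  have card3 : ∀ {l : Finset α} {p q : α}, l ∈ L → p ∈ S → q ∈ S → p ≠ q → p ∈ l → q ∈ l →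
      (l \ S).card = 3 := by
    intro l p q hl hp hq hpq hpl hql
    have := card_sdiff_add_card_inter l S
    rw [hI.inter_eq hl hp hq hpq hpl hql, card_pair hpq, h.steiner.1 _ hl] at this
    omega
  have opp : ∀ {l m : Finset α} {p q r s : α}, l ∈ L → m ∈ L → p ∈ S → q ∈ S → r ∈ S → s ∈ S →
      p ≠ q → r ≠ s → r ≠ p → r ≠ q → s ≠ p → s ≠ q → p ∈ l → q ∈ l → r ∈ m → s ∈ m →
      ((l \ S) ∪ (m \ S)).card = 5 := by
    intro l m p q r s hl hm hp hq hr hs hpq hrs hrp hrq hsp hsq hpl hql hrm hsm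
    have hne : l ≠ m := by
      rintro rfl
      rcases hI.pair hl hp hq hr hpq hpl hql hrm with e | e <;> [exact hrp e; exact hrq e]
    obtain ⟨x, hxl, hxm⟩ := h.meet hl hm hne
    have hxS : x ∉ S := by
      intro hxS
      rcases hI.pair hl hp hq hxS hpq hpl hql hxl with e | e <;>
        rcases hI.pair hm hr hs hxS hrs hrm hsm hxm with e' | e'
      · exact hrp (e'.symm.trans e)
      · exact hsp (e'.symm.trans e)
      · exact hrq (e'.symm.trans e)
      · exact hsq (e'.symm.trans e)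
    have h1 : (l \ S) ∩ (m \ S) = {x} := by
      refine eq_singleton_iff_unique_mem.2 ⟨by simp [hxl, hxm, hxS], fun y hy => ?_⟩
      simp only [mem_inter, mem_sdiff] at hy
      by_contra hyx
      exact hne (h.line_eq hyx hl hm hy.1.1 hxl hy.2.1 hxm)
    have := card_union_add_card_inter (l \ S) (m \ S)
    rw [h1, card_singleton, card3 hl hp hq hpq hpl hql, card3 hm hr hs hrs hrm hsm] at this
    omega
  have e1 := opp hl₁ hl₆ maS mbS mcS mdS hab hcd hac.symm hbc.symm had.symm hbd.symm ha1 hb1 hc6 hd6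
  have e2 := opp hl₂ hl₅ maS mcS mbS mdS hac hbd hab.symm hbc had.symm hcd.symm ha2 hc2 hb5 hd5
  have e3 := opp hl₃ hl₄ maS mdS mbS mcS had hbc hab.symm hbd hac.symm hcd ha3 hd3 hb4 hc4
  have d12 := adj hl₁ hl₂ maS mbS mcS hab hac hbc ha1 hb1 ha2 hc2
  have d15 := adj hl₁ hl₅ mbS maS mdS hab.symm hbd had hb1 ha1 hb5 hd5
  have d62 := adj hl₆ hl₂ mcS mdS maS hcd hac.symm had.symm hc6 hd6 hc2 ha2
  have d65 := adj hl₆ hl₅ mdS mcS mbS hcd.symm hbd.symm hbc.symm hd6 hc6 hd5 hb5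
  have d13 := adj hl₁ hl₃ maS mbS mdS hab had hbd ha1 hb1 ha3 hd3
  have d14 := adj hl₁ hl₄ mbS maS mcS hab.symm hbc hac hb1 ha1 hb4 hc4
  have d63 := adj hl₆ hl₃ mdS mcS maS hcd.symm had.symm hac.symm hd6 hc6 hd3 ha3
  have d64 := adj hl₆ hl₄ mcS mdS mbS hcd hbc.symm hbd.symm hc6 hd6 hc4 hb4
  have d23 := adj hl₂ hl₃ maS mcS mdS hac had hcd ha2 hc2 ha3 hd3
  have d24 := adj hl₂ hl₄ mcS maS mbS hac.symm hbc.symm hab hc2 ha2 hc4 hb4
  have d53 := adj hl₅ hl₃ mdS mbS maS hbd.symm had.symm hab.symm hd5 hb5 hd3 ha3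
  have d54 := adj hl₅ hl₄ mbS mdS mcS hbd hbc hcd.symm hb5 hd5 hb4 hc4
  set C : Finset α := ((l₁ \ S) ∪ (l₆ \ S)) ∪ ((l₂ \ S) ∪ (l₅ \ S)) ∪ ((l₃ \ S) ∪ (l₄ \ S))
  have hC : C.card = 15 := by
    rw [card_union_of_disjoint, card_union_of_disjoint, e1, e2, e3]
    · simp only [disjoint_union_left, disjoint_union_right]
      exact ⟨⟨d12, d62⟩, ⟨d15, d65⟩⟩
    · simp only [disjoint_union_left, disjoint_union_right]
      exact ⟨⟨⟨d13, d63⟩, ⟨d23, d53⟩⟩, ⟨⟨d14, d64⟩, ⟨d24, d54⟩⟩⟩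
  have s1 : l₁ \ S ⊆ C := (subset_union_left.trans subset_union_left).trans subset_union_left
  have s6 : l₆ \ S ⊆ C := (subset_union_right.trans subset_union_left).trans subset_union_left
  have s2 : l₂ \ S ⊆ C := (subset_union_left.trans subset_union_right).trans subset_union_left
  have s5 : l₅ \ S ⊆ C := (subset_union_right.trans subset_union_right).trans subset_union_left
  have s3 : l₃ \ S ⊆ C := subset_union_left.trans subset_union_right
  have s4 : l₄ \ S ⊆ C := subset_union_right.trans subset_union_right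
  have hdisj : Disjoint S C := by
    simp only [C, disjoint_union_right]
    exact ⟨⟨⟨disjoint_sdiff, disjoint_sdiff⟩, disjoint_sdiff, disjoint_sdiff⟩, disjoint_sdiff,
      disjoint_sdiff⟩
  set R : Finset α := univ \ (S ∪ C)
  have hR : R.card = 2 := by
    rw [card_sdiff_of_subset (subset_univ _), card_univ, h.card_pts,
      card_union_of_disjoint hdisj, hS, hC]
  -- a point outside S is bad iff it is covered by a secant
  have hsec : ∀ x ∈ C, ∃ l ∈ L, ∃ p ∈ S, ∃ q ∈ S, p ≠ q ∧ p ∈ l ∧ q ∈ l ∧ x ∈ l ∧ x ∉ S := by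
    intro x hx
    simp only [C, mem_union, mem_sdiff] at hx
    rcases hx with ((hx | hx) | hx | hx) | hx | hx
    · exact ⟨l₁, hl₁, a, maS, b, mbS, hab, ha1, hb1, hx.1, hx.2⟩
    · exact ⟨l₆, hl₆, c, mcS, d, mdS, hcd, hc6, hd6, hx.1, hx.2⟩
    · exact ⟨l₂, hl₂, a, maS, c, mcS, hac, ha2, hc2, hx.1, hx.2⟩
    · exact ⟨l₅, hl₅, b, mbS, d, mdS, hbd, hb5, hd5, hx.1, hx.2⟩
    · exact ⟨l₃, hl₃, a, maS, d, mdS, had, ha3, hd3, hx.1, hx.2⟩
    · exact ⟨l₄, hl₄, b, mbS, c, mcS, hbc, hb4, hc4, hx.1, hx.2⟩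
  refine ⟨S ∪ R, ⟨⟨?_, ?_⟩, subset_union_left⟩, ?_⟩
  · rw [card_union_of_disjoint, hS, hR]
    exact disjoint_left.2 fun x hx hx' => (mem_sdiff.1 hx').2 (mem_union_left _ hx)
  · intro l hl
    by_contra hgt
    push Not at hgt
    have hSR : (l ∩ (S ∪ R)).card ≤ (l ∩ S).card + (l ∩ R).card := by
      rw [inter_union_distrib_left]; exact card_union_le _ _
    have hlR : (l ∩ R).card ≤ 2 := (card_le_card inter_subset_right).trans hR.le
    -- a line with two points of S has no point of R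
    by_cases h2 : 2 ≤ (l ∩ S).card
    · obtain ⟨p, hp, q, hq, hpq⟩ := one_lt_card.1 h2
      rw [mem_inter] at hp hq
      have hlS := hI l hl
      obtain ⟨x, hx⟩ : (l ∩ R).Nonempty := card_pos.1 (by omega)
      rw [mem_inter] at hx
      have hxR := mem_sdiff.1 hx.2
      apply hxR.2
      refine mem_union_right _ ?_
      have hxS : x ∉ S := fun e => hxR.2 (mem_union_left _ e)
      have key : ∀ {m : Finset α} {r s : α}, m ∈ L → r ≠ s → r ∈ m → s ∈ m →
          p = r ∧ q = s ∨ p = s ∧ q = r → x ∈ m \ S := by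
        intro m r s hm hrs hrm hsm hpair
        refine mem_sdiff.2 ⟨?_, hxS⟩
        rcases hpair with ⟨rfl, rfl⟩ | ⟨rfl, rfl⟩
        · exact h.line_eq hpq hl hm hp.1 hq.1 hrm hsm ▸ hx.1
        · exact h.line_eq hpq hl hm hp.1 hq.1 hsm hrm ▸ hx.1
      have hpS := hp.2
      have hqS := hq.2
      simp only [S, mem_insert, mem_singleton] at hpS hqS
      rcases hpS with rfl | rfl | rfl | rfl <;> rcases hqS with rfl | rfl | rfl | rfl <;>
        first
        | exact absurd rfl hpq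
        | exact s1 (key hl₁ hab ha1 hb1 (Or.inl ⟨rfl, rfl⟩))
        | exact s1 (key hl₁ hab ha1 hb1 (Or.inr ⟨rfl, rfl⟩))
        | exact s6 (key hl₆ hcd hc6 hd6 (Or.inl ⟨rfl, rfl⟩))
        | exact s6 (key hl₆ hcd hc6 hd6 (Or.inr ⟨rfl, rfl⟩))
        | exact s2 (key hl₂ hac ha2 hc2 (Or.inl ⟨rfl, rfl⟩))
        | exact s2 (key hl₂ hac ha2 hc2 (Or.inr ⟨rfl, rfl⟩))
        | exact s5 (key hl₅ hbd hb5 hd5 (Or.inl ⟨rfl, rfl⟩))
        | exact s5 (key hl₅ hbd hb5 hd5 (Or.inr ⟨rfl, rfl⟩))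
        | exact s3 (key hl₃ had ha3 hd3 (Or.inl ⟨rfl, rfl⟩))
        | exact s3 (key hl₃ had ha3 hd3 (Or.inr ⟨rfl, rfl⟩))
        | exact s4 (key hl₄ hbc hb4 hc4 (Or.inl ⟨rfl, rfl⟩))
        | exact s4 (key hl₄ hbc hb4 hc4 (Or.inr ⟨rfl, rfl⟩))
    · -- a tangent through a point of S meets C in at least three points
      obtain ⟨p, hp⟩ : (l ∩ S).Nonempty := card_pos.1 (by omega)
      rw [mem_inter] at hp
      have hone : l ∩ S = {p} := by
        refine (eq_of_subset_of_card_le (by simp [hp.1, hp.2]) ?_).symm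
        rw [card_singleton]; omega
      have hR2 : 2 ≤ (l ∩ R).card := by
        rw [hone, card_singleton] at hSR; omega
      have h5 := h.steiner.1 l hl
      have h6 : (l ∩ S).card + (l ∩ R).card + (l ∩ C).card ≤ 5 := by
        have dSR : Disjoint (l ∩ S) (l ∩ R) := disjoint_left.2 fun x hx hx' =>
          (mem_sdiff.1 (mem_inter.1 hx').2).2 (mem_union_left _ (mem_inter.1 hx).2)
        have dC : Disjoint ((l ∩ S) ∪ (l ∩ R)) (l ∩ C) := disjoint_left.2 fun x hx hx' => by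
          rcases mem_union.1 hx with hx | hx
          · exact disjoint_left.1 hdisj (mem_inter.1 hx).2 (mem_inter.1 hx').2
          · exact (mem_sdiff.1 (mem_inter.1 hx).2).2 (mem_union_right _ (mem_inter.1 hx').2)
        rw [← card_union_of_disjoint dSR, ← card_union_of_disjoint dC, ← h5]
        exact card_le_card (union_subset (union_subset inter_subset_left inter_subset_left)
          inter_subset_left)
      -- the three secants avoiding p give three distinct points of C on l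
      have tri : ∀ {m₁ m₂ m₃ : Finset α} {q r s : α}, m₁ ∈ L → m₂ ∈ L → m₃ ∈ L → q ∈ S → r ∈ S →
          s ∈ S → q ∈ m₁ → r ∈ m₁ → q ∈ m₂ → s ∈ m₂ → r ∈ m₃ → s ∈ m₃ → q ≠ r → q ≠ s → r ≠ s →
          q ≠ p → r ≠ p → s ≠ p → m₁ \ S ⊆ C → m₂ \ S ⊆ C → m₃ \ S ⊆ C → 3 ≤ (l ∩ C).card := by
        intro m₁ m₂ m₃ q r s hm₁ hm₂ hm₃ hq hr hs hq1 hr1 hq2 hs2 hr3 hs3 hqr hqs hrs hqp hrp hsp
          hC1 hC2 hC3
        have hnl : ∀ {u : α}, u ∈ S → u ∈ l → u = p := by
          intro u hu hul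
          have : u ∈ l ∩ S := mem_inter.2 ⟨hul, hu⟩
          rw [hone] at this; exact mem_singleton.1 this
        have one : ∀ {m : Finset α} {u v : α}, m ∈ L → u ∈ S → v ∈ S → u ≠ v → u ∈ m → v ∈ m →
            u ≠ p → v ≠ p → m \ S ⊆ C → ∃ x, x ∈ m \ S ∧ x ∈ l ∩ C := by
          intro m u v hm hu hv huv hum hvm hup hvp hmC
          have hne : l ≠ m := fun e => hup (hnl hu (e ▸ hum))
          obtain ⟨x, hxl, hxm⟩ := h.meet hl hm hne
          have hxS : x ∉ S := by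
            intro hxS
            have hxp := hnl hxS hxl
            rcases hI.pair hm hu hv hxS huv hum hvm hxm with e | e
            · exact hup (e ▸ hxp)
            · exact hvp (e ▸ hxp)
          exact ⟨x, mem_sdiff.2 ⟨hxm, hxS⟩, mem_inter.2 ⟨hxl, hmC (mem_sdiff.2 ⟨hxm, hxS⟩)⟩⟩
        obtain ⟨x₁, hx₁, hx₁'⟩ := one hm₁ hq hr hqr hq1 hr1 hqp hrp hC1
        obtain ⟨x₂, hx₂, hx₂'⟩ := one hm₂ hq hs hqs hq2 hs2 hqp hsp hC2
        obtain ⟨x₃, hx₃, hx₃'⟩ := one hm₃ hr hs hrs hr3 hs3 hrp hsp hC3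
        have n12 : x₁ ≠ x₂ := fun e => disjoint_left.1
          (adj hm₁ hm₂ hq hr hs hqr hqs hrs hq1 hr1 hq2 hs2) hx₁ (e ▸ hx₂)
        have n13 : x₁ ≠ x₃ := fun e => disjoint_left.1
          (adj hm₁ hm₃ hr hq hs hqr.symm hrs hqs hr1 hq1 hr3 hs3) hx₁ (e ▸ hx₃)
        have n23 : x₂ ≠ x₃ := fun e => disjoint_left.1
          (adj hm₂ hm₃ hs hq hr hqs.symm hrs.symm hqr hs2 hq2 hs3 hr3) hx₂ (e ▸ hx₃)
        have hsub : ({x₁, x₂, x₃} : Finset α) ⊆ l ∩ C := by
          simp only [insert_subset_iff, singleton_subset_iff]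
          exact ⟨hx₁', hx₂', hx₃'⟩
        have := card_le_card hsub
        rw [card_insert_of_notMem (by simp [n12, n13]), card_pair n23] at this
        exact this
      have hpS := hp.2
      simp only [S, mem_insert, mem_singleton] at hpS
      have : 3 ≤ (l ∩ C).card := by
        rcases hpS with rfl | rfl | rfl | rfl
        · exact tri hl₄ hl₅ hl₆ mbS mcS mdS hb4 hc4 hb5 hd5 hc6 hd6 hbc hbd hcd hab.symm hac.symm
            had.symm s4 s5 s6
        · exact tri hl₂ hl₃ hl₆ maS mcS mdS ha2 hc2 ha3 hd3 hc6 hd6 hac had hcd hab hbc.symm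
            hbd.symm s2 s3 s6
        · exact tri hl₁ hl₃ hl₅ maS mbS mdS ha1 hb1 ha3 hd3 hb5 hd5 hab had hbd hac hbc
            hcd.symm s1 s3 s5
        · exact tri hl₁ hl₂ hl₄ maS mbS mcS ha1 hb1 ha2 hc2 hb4 hc4 hab hac hbc had hbd hcd
            s1 s2 s4
      rw [hone, card_singleton] at h6
      omega
  · rintro H ⟨⟨hH6, hHI⟩, hSH⟩
    refine eq_of_subset_of_card_le ?_ ?_
    · intro x hx
      by_cases hxS : x ∈ S
      · exact mem_union_left _ hxS
      refine mem_union_right _ (mem_sdiff.2 ⟨mem_univ _, ?_⟩)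
      rw [mem_union]
      rintro (e | e)
      · exact hxS e
      obtain ⟨l, hl, p, hp, q, hq, hpq, hpl, hql, hxl, -⟩ := hsec x e
      rcases hHI.pair hl (hSH hp) (hSH hq) hx hpq hpl hql hxl with rfl | rfl
      · exact hxS hp
      · exact hxS hq
    · rw [card_union_of_disjoint, hS, hR, hH6]
      exact disjoint_left.2 fun x hx hx' => (mem_sdiff.1 hx').2 (mem_union_left _ hx)

end Cfsg.Agent.Lib.PlaneFour
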