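import Mathlib
import Cfsg.Agent.Lib.PlaneFour.Plane

/-!
Projective planes of order 4: isomorphism with the model, unique given the labelling of a hyperoval;
numbers of independent 4-sets and of hyperovals.
-/

set_option autoImplicit false

namespace Cfsg.Agent.Lib.PlaneFour

open Finset

variable {α : Type*} [Fintype α] [DecidableEq α] {L : Set (Finset α)}

theorem eq_pairing (f : Fin 6 → Fin 6) (h1 : ∀ a, f (f a) = a) (h2 : ∀ a, f a ≠ a) :
    ∃ j, ∀ a, pairing j a = f a := by
  have hinj : Function.Injective f := (Function.LeftInverse.injective h1)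
  obtain ⟨r, hr⟩ : ∃ r : Fin 6, r ∉ ({0, f 0} : Finset (Fin 6)) := by
    by_contra hno
    push Not at hno
    have := card_le_card (fun x (_ : x ∈ (univ : Finset (Fin 6))) => hno x)
    rw [card_univ, Fintype.card_fin] at this
    have := card_le_two (a := (0 : Fin 6)) (b := f 0)
    omega
  obtain ⟨t, ht⟩ : ∃ t : Fin 6, t ∉ ({0, f 0, r, f r} : Finset (Fin 6)) := by
    by_contra hno
    push Not at hno
    have := card_le_card (fun x (_ : x ∈ (univ : Finset (Fin 6))) => hno x)
    rw [card_univ, Fintype.card_fin] at this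
    have := card_le_four (a := (0 : Fin 6)) (b := f 0) (c := r) (d := f r)
    omega
  simp only [mem_insert, mem_singleton, not_or] at hr ht
  obtain ⟨hr0, hrf0⟩ := hr
  obtain ⟨ht0, htf0, htr, htfr⟩ := ht
  have a1 : f r ≠ 0 := fun e => hrf0 (by rw [← e, h1])
  have a2 : f r ≠ f 0 := fun e => hr0 (hinj e)
  have a3 : f t ≠ 0 := fun e => htf0 (by rw [← e, h1])
  have a4 : f t ≠ f 0 := fun e => ht0 (hinj e)
  have a5 : f t ≠ r := fun e => htfr (by rw [← e, h1])
  have a6 : f t ≠ f r := fun e => htr (hinj e)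
  have hnd : [0, f 0, r, f r, t, f t].Nodup := by
    have b0 := h2 0
    have b1 := h2 r
    have b2 := h2 t
    simp only [List.nodup_cons, List.mem_cons, List.not_mem_nil, or_false, not_or,
      List.nodup_nil, and_true, not_false_eq_true]
    refine ⟨⟨b0.symm, ?_, ?_, ?_, ?_⟩, ⟨?_, ?_, ?_, ?_⟩, ⟨b1.symm, ?_, ?_⟩, ⟨?_, ?_⟩, b2.symm⟩ <;>
      first | assumption | exact Ne.symm (by assumption)
  obtain ⟨j, j0, jr, jt⟩ := exists_pairing _ _ _ _ _ _ hnd
  refine ⟨j, fun a => ?_⟩
  have hall : ({0, f 0, r, f r, t, f t} : Finset (Fin 6)) = univ := by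
    refine eq_univ_of_card _ ?_
    have hl : [0, f 0, r, f r, t, f t].toFinset = ({0, f 0, r, f r, t, f t} : Finset (Fin 6)) := by
      ext x
      simp
    rw [Fintype.card_fin, ← hl, List.toFinset_card_of_nodup hnd]
    rfl
  have ha := mem_univ a
  rw [← hall] at ha
  simp only [mem_insert, mem_singleton] at ha
  rcases ha with rfl | rfl | rfl | rfl | rfl | rfl
  · exact j0
  · rw [h1]; nth_rewrite 1 [← j0]; exact (pairing_invol j 0).1
  · exact jr
  · rw [h1]; nth_rewrite 1 [← jr]; exact (pairing_invol j r).1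
  · exact jt
  · rw [h1]; nth_rewrite 1 [← jt]; exact (pairing_invol j t).1

variable {H : Finset α}

/-- Every line through a point of a hyperoval meets it in exactly one further point. -/
theorem IsPlane.secant (h : IsPlane L) (hH : H.card = 6) (hI : Indep L H) {l : Finset α}
    (hl : l ∈ L) {a : α} (ha : a ∈ H) (hal : a ∈ l) : ∃ b ∈ H, b ≠ a ∧ b ∈ l := by
  classical
  obtain ⟨B, hB, -, hB5⟩ := h.exists_finset
  have : ∀ q ∈ H.erase a, ∃ n ∈ L, a ∈ n ∧ q ∈ n :=
    fun q hq => h.exists_line (ne_of_mem_erase hq).symm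
  choose! f hfL hfa hfq using this
  have hinj : Set.InjOn f (H.erase a) := by
    intro q hq q' hq' e
    have hq1 := mem_erase.1 hq
    have hq2 := mem_erase.1 hq'
    rcases hI.pair (hfL q hq) ha hq1.2 hq2.2 hq1.1.symm (hfa q hq) (hfq q hq) (e ▸ hfq q' hq')
      with h' | h'
    · exact absurd h' hq2.1
    · exact h'.symm
  have himg : (H.erase a).image f = B.filter fun n => a ∈ n := by
    refine eq_of_subset_of_card_le ?_ ?_
    · intro n hn
      obtain ⟨q, hq, rfl⟩ := mem_image.1 hn
      exact mem_filter.2 ⟨(hB _).2 (hfL q hq), hfa q hq⟩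
    · rw [hB5, card_image_of_injOn hinj, card_erase_of_mem ha, hH]
  have hmem : l ∈ (H.erase a).image f := himg ▸ mem_filter.2 ⟨(hB _).2 hl, hal⟩
  obtain ⟨q, hq, rfl⟩ := mem_image.1 hmem
  exact ⟨q, mem_of_mem_erase hq, ne_of_mem_erase hq, hfq q hq⟩

/-- `j` records how the lines through `x` pair the hyperoval. -/
def IsIndex (L : Set (Finset α)) (H : Finset α) (e : H ≃ Fin 6) (x : α) (j : Fin 15) : Prop :=
  ∀ l ∈ L, x ∈ l → ∀ a b : H, a ≠ b → (a : α) ∈ l → (b : α) ∈ l → pairing j (e a) = e b

theorem IsPlane.exists_index (h : IsPlane L) (hH : H.card = 6) (hI : Indep L H) (e : H ≃ Fin 6)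
    {x : α} (hx : x ∉ H) : ∃ j, IsIndex L H e x j := by
  have : ∀ i : Fin 6, ∃ k : Fin 6, k ≠ i ∧
      ∃ l ∈ L, x ∈ l ∧ (e.symm i : α) ∈ l ∧ (e.symm k : α) ∈ l := by
    intro i
    obtain ⟨l, hl, hxl, hil⟩ := h.exists_line (a := x) (b := (e.symm i : α))
      (fun he => hx (he ▸ (e.symm i).2))
    obtain ⟨b, hb, hbne, hbl⟩ := h.secant hH hI hl (e.symm i).2 hil
    refine ⟨e ⟨b, hb⟩, fun he => hbne ?_, l, hl, hxl, hil, by simpa using hbl⟩
    rw [← he]; simp
  choose f hfne l hl hxl hil hkl using this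
  have huniq : ∀ m ∈ L, x ∈ m → ∀ a b : H, a ≠ b → (a : α) ∈ m → (b : α) ∈ m → f (e a) = e b := by
    intro m hm hxm a b hab ham hbm
    have hm' : l (e a) = m := h.line_eq (fun he : x = a => hx (he ▸ a.2)) (hl _) hm (hxl _)
      (by simpa using hil (e a)) hxm ham
    have hab' : (a : α) ≠ b := fun he => hab (Subtype.ext he)
    rcases hI.pair hm a.2 b.2 (e.symm (f (e a))).2 hab' ham hbm (hm' ▸ hkl (e a)) with he | he
    · exact absurd (by simpa using congrArg e (Subtype.ext he : e.symm (f (e a)) = a)) (hfne (e a))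
    · simpa using congrArg e (Subtype.ext he : e.symm (f (e a)) = b)
  have h1 : ∀ i, f (f i) = i := by
    intro i
    have := huniq (l i) (hl i) (hxl i) (e.symm (f i)) (e.symm i)
      (fun he => hfne i (e.symm.injective he)) (hkl i) (hil i)
    simpa using this
  obtain ⟨j, hj⟩ := eq_pairing f h1 hfne
  exact ⟨j, fun m hm hxm a b hab ham hbm => by rw [hj]; exact huniq m hm hxm a b hab ham hbm⟩

theorem offPt_injective : Function.Injective offPt := by
  intro a b hab; simp [offPt, Fin.ext_iff] at hab ⊢; omega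

theorem ovalPt_ne_offPt (a : Fin 6) (j : Fin 15) : ovalPt a ≠ offPt j := by
  simp [ovalPt, offPt, Fin.ext_iff]; omega

theorem pt_cases (v : Fin 21) : (∃ a, v = ovalPt a) ∨ ∃ j, v = offPt j := by
  rcases Nat.lt_or_ge v.1 6 with h | h
  · exact Or.inl ⟨⟨v.1, h⟩, rfl⟩
  · exact Or.inr ⟨⟨v.1 - 6, by omega⟩, by simp [offPt, Fin.ext_iff]; omega⟩

theorem IsPlane.index_inj (h : IsPlane L) (hH : H.card = 6) (hI : Indep L H) (e : H ≃ Fin 6)
    {x y : α} {j : Fin 15} (hx : x ∉ H) (hy : y ∉ H) (hxj : IsIndex L H e x j)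
    (hyj : IsIndex L H e y j) : x = y := by
  by_contra hxy
  -- both lie on two secants
  have key : ∀ a : H, ∀ l ∈ L, x ∈ l → (a : α) ∈ l → y ∈ l := by
    intro a l hl hxl hal
    obtain ⟨b, hb, hba, hbl⟩ := h.secant hH hI hl a.2 hal
    have hab : a ≠ ⟨b, hb⟩ := fun he => hba (congrArg Subtype.val he).symm
    have h1 := hxj l hl hxl a ⟨b, hb⟩ hab hal hbl
    obtain ⟨m, hm, hym, ham⟩ := h.exists_line (a := y) (b := (a : α)) (fun he => hy (he ▸ a.2))
    obtain ⟨c, hc, hca, hcm⟩ := h.secant hH hI hm a.2 ham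
    have hac : a ≠ ⟨c, hc⟩ := fun he => hca (congrArg Subtype.val he).symm
    have h2 := hyj m hm hym a ⟨c, hc⟩ hac ham hcm
    have hbc : b = c := congrArg Subtype.val (e.injective (h1.symm.trans h2))
    have : l = m := h.line_eq (Ne.symm hba) hl hm hal hbl ham (hbc ▸ hcm)
    exact this ▸ hym
  obtain ⟨l, hl, hxl, hyl⟩ := h.exists_line hxy
  have hsub : H ⊆ l := by
    intro a ha
    obtain ⟨m, hm, hxm, ham⟩ := h.exists_line (a := x) (b := a) (fun he => hx (he ▸ ha))
    exact h.line_eq hxy hm hl hxm (key ⟨a, ha⟩ m hm hxm ham) hxl hyl ▸ ham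
  have := card_le_card (subset_inter hsub (subset_refl H))
  have := hI l hl
  omega

/-- Every plane is isomorphic to the model, by a unique map extending any labelling of a
hyperoval. -/
theorem IsPlane.exists_iso (h : IsPlane L) (hH : H.card = 6) (hI : Indep L H) (e : H ≃ Fin 6) :
    ∃ φ : α ≃ Fin 21, (∀ a : H, φ a = ovalPt (e a)) ∧ ∀ s, s ∈ L ↔ s.image φ ∈ modelLines := by
  classical
  have hex : ∀ x, x ∉ H → ∃ j, IsIndex L H e x j := fun x hx => h.exists_index hH hI e hx
  choose j hj using hex
  let f : α → Fin 21 := fun x => if hx : x ∈ H then ovalPt (e ⟨x, hx⟩) else offPt (j x hx)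
  have hfin : ∀ a : H, f a = ovalPt (e a) := fun a => by simp [f, a.2]
  have hfout : ∀ x (hx : x ∉ H), f x = offPt (j x hx) := fun x hx => by simp [f, hx]
  have hinj : Function.Injective f := by
    intro x y hxy
    by_cases hx : x ∈ H <;> by_cases hy : y ∈ H
    · rw [hfin ⟨x, hx⟩, hfin ⟨y, hy⟩] at hxy
      have hv := congrArg Fin.val hxy
      simp only [ovalPt] at hv
      have : e ⟨x, hx⟩ = e ⟨y, hy⟩ := Fin.ext hv
      exact congrArg Subtype.val (e.injective this)
    · rw [hfin ⟨x, hx⟩, hfout y hy] at hxy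
      exact absurd hxy (ovalPt_ne_offPt _ _)
    · rw [hfout x hx, hfin ⟨y, hy⟩] at hxy
      exact absurd hxy.symm (ovalPt_ne_offPt _ _)
    · rw [hfout x hx, hfout y hy] at hxy
      exact h.index_inj hH hI e hx hy (hj x hx) (offPt_injective hxy ▸ hj y hy)
  have hbij : Function.Bijective f :=
    (Fintype.bijective_iff_injective_and_card f).2 ⟨hinj, by rw [h.card_pts, Fintype.card_fin]⟩
  have himg : ∀ l ∈ L, l.image f ∈ modelLines := by
    intro l hl
    by_cases hmeet : ∃ a, a ∈ H ∧ a ∈ l
    · obtain ⟨a, haH, hal⟩ := hmeet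
      obtain ⟨b, hb, hba, hbl⟩ := h.secant hH hI hl haH hal
      have hab : (⟨a, haH⟩ : H) ≠ ⟨b, hb⟩ := fun he => hba (congrArg Subtype.val he).symm
      have heab : e ⟨a, haH⟩ ≠ e ⟨b, hb⟩ := e.injective.ne hab
      suffices l.image f = _ from this ▸ secant_mem _ _ heab
      refine eq_of_subset_of_card_le ?_ ?_
      · intro v hv
        obtain ⟨x, hxl, rfl⟩ := mem_image.1 hv
        rw [mem_union]
        by_cases hx : x ∈ H
        · left
          rcases hI.pair hl haH hb hx (Ne.symm hba) hal hbl hxl with rfl | rfl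
          · rw [hfin ⟨x, hx⟩]; simp
          · rw [hfin ⟨x, hx⟩]; simp
        · right
          rw [hfout x hx]
          exact mem_image_of_mem _ (mem_filter.2
            ⟨mem_univ _, hj x hx l hl hxl _ _ hab hal hbl⟩)
      · rw [card_secant _ _ heab, card_image_of_injective _ hinj, h.steiner.1 _ hl]
    · push Not at hmeet
      have hout : ∀ x ∈ l, x ∉ H := fun x hx hxH => hmeet x hxH hx
      set T : Finset (Fin 15) := l.attach.image fun x => j x.1 (hout x.1 x.2)
      have hTimg : T.image offPt = l.image f := by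
        rw [image_image]
        conv_rhs => rw [← l.attach_image_val, image_image]
        refine image_congr fun x _ => ?_
        exact (hfout x.1 (hout x.1 x.2)).symm
      rw [← hTimg]
      refine external_mem T ?_ ?_
      · rw [← card_image_of_injective T offPt_injective, hTimg, card_image_of_injective _ hinj,
          h.steiner.1 _ hl]
      · intro u hu v hv i hi
        simp only [T, mem_image, mem_attach, true_and] at hu hv
        obtain ⟨⟨x, hxl⟩, rfl⟩ := hu
        obtain ⟨⟨y, hyl⟩, rfl⟩ := hv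
        obtain ⟨m, hm, hxm, ham⟩ := h.exists_line (a := x) (b := (e.symm i : α))
          (fun he => hout x hxl (he ▸ (e.symm i).2))
        obtain ⟨b, hb, hba, hbm⟩ := h.secant hH hI hm (e.symm i).2 ham
        have hab : e.symm i ≠ ⟨b, hb⟩ := fun he => hba (congrArg Subtype.val he).symm
        have h1 := hj x (hout x hxl) m hm hxm _ _ hab ham hbm
        obtain ⟨m', hm', hym', ham'⟩ := h.exists_line (a := y) (b := (e.symm i : α))
          (fun he => hout y hyl (he ▸ (e.symm i).2))
        obtain ⟨c, hc, hca, hcm'⟩ := h.secant hH hI hm' (e.symm i).2 ham'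
        have hac : e.symm i ≠ ⟨c, hc⟩ := fun he => hca (congrArg Subtype.val he).symm
        have h2 := hj y (hout y hyl) m' hm' hym' _ _ hac ham' hcm'
        simp only [Equiv.apply_symm_apply] at h1 h2
        have hbc : b = c := by
          have := h1.symm.trans (hi.trans h2)
          exact congrArg Subtype.val (e.injective this)
        have hmm : m = m' := h.line_eq (Ne.symm hba) hm hm' ham hbm ham' (hbc ▸ hcm')
        have hxy : x = y := by
          by_contra hxy
          have := h.line_eq hxy hl hm hxl hyl hxm (hmm ▸ hym')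
          exact hmeet _ (e.symm i).2 (this ▸ ham)
        subst hxy
        rfl
  obtain ⟨B, hB, hBcard, -⟩ := h.exists_finset
  have hBimg : B.image (fun l => l.image f) = modelLines := by
    refine eq_of_subset_of_card_le ?_ ?_
    · intro v hv
      obtain ⟨l, hl, rfl⟩ := mem_image.1 hv
      exact himg l ((hB l).1 hl)
    · rw [card_image_of_injective _ (image_injective hinj), hBcard, card_modelLines]
  refine ⟨Equiv.ofBijective f hbij, hfin, fun s => ⟨fun hs => himg s hs, fun hs => ?_⟩⟩
  have hs' : s.image f ∈ B.image (fun l => l.image f) := hBimg ▸ hs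
  obtain ⟨l, hl, he⟩ := mem_image.1 hs'
  exact (image_injective hinj he) ▸ (hB l).1 hl

theorem IsPlane.iso_unique (h : IsPlane L) (hH : H.card = 6) (hI : Indep L H) (e : H ≃ Fin 6)
    {φ ψ : α ≃ Fin 21} (hφ : ∀ a : H, φ a = ovalPt (e a))
    (hφL : ∀ s ∈ L, s.image φ ∈ modelLines) (hψ : ∀ a : H, ψ a = ovalPt (e a))
    (hψL : ∀ s ∈ L, s.image ψ ∈ modelLines) : φ = ψ := by
  ext1 x
  by_cases hx : x ∈ H
  · rw [hφ ⟨x, hx⟩, hψ ⟨x, hx⟩]
  have key : ∀ χ : α ≃ Fin 21, (∀ a : H, χ a = ovalPt (e a)) →
      (∀ s ∈ L, s.image χ ∈ modelLines) → ∀ j, IsIndex L H e x j → χ x = offPt j := by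
    intro χ hχ hχL j hj
    rcases pt_cases (χ x) with ⟨a, ha⟩ | ⟨k, hk⟩
    · exfalso
      apply hx
      have : χ x = χ (e.symm a) := by rw [hχ, Equiv.apply_symm_apply, ha]
      rw [χ.injective this]
      exact (e.symm a).2
    rw [hk]
    congr 1
    refine pairing_surj _ _ fun i => ?_
    obtain ⟨l, hl, hxl, hil⟩ := h.exists_line (a := x) (b := (e.symm i : α))
      (fun he => hx (he ▸ (e.symm i).2))
    obtain ⟨b, hb, hba, hbl⟩ := h.secant hH hI hl (e.symm i).2 hil
    have hab : e.symm i ≠ ⟨b, hb⟩ := fun he => hba (congrArg Subtype.val he).symm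
    have h1 := hj l hl hxl _ _ hab hil hbl
    have hne : i ≠ e ⟨b, hb⟩ := fun he => hab (by rw [he, Equiv.symm_apply_apply])
    have h2 := pairing_of_mem _ (hχL l hl) i (e ⟨b, hb⟩) hne
      (by rw [← Equiv.apply_symm_apply e i, ← hχ]; exact mem_image_of_mem _ hil)
      (by rw [← hχ]; exact mem_image_of_mem _ hbl) k (hk ▸ mem_image_of_mem _ hxl)
    rw [Equiv.apply_symm_apply] at h1
    exact h2.trans h1.symm
  obtain ⟨j, hj⟩ := h.exists_index hH hI e hx
  rw [key φ hφ hφL j hj, key ψ hψ hψL j hj]

open scoped Classical in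
/-- The independent sets of size `k`. -/
noncomputable def indepSets (L : Set (Finset α)) (k : ℕ) : Finset (Finset α) :=
  ((univ : Finset α).powersetCard k).filter fun S => Indep L S

theorem mem_indepSets {k : ℕ} {S : Finset α} : S ∈ indepSets L k ↔ S.card = k ∧ Indep L S := by
  simp [indepSets, mem_powersetCard]

/-- Double counting by one-point extensions. -/
theorem card_indepSets_succ {k e : ℕ}
    (he : ∀ S : Finset α, S.card = k → Indep L S →
      ∀ [DecidablePred fun x => x ∉ S ∧ Indep L (insert x S)],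
        (univ.filter fun x => x ∉ S ∧ Indep L (insert x S)).card = e) :
    (k + 1) * (indepSets L (k + 1)).card = e * (indepSets L k).card := by
  classical
  have h1 : ((indepSets L (k + 1)).sigma fun S => S).card = (indepSets L (k + 1)).card * (k + 1) := by
    rw [card_sigma]
    exact sum_const_nat fun S hS => (mem_indepSets.1 hS).1
  have h2 : ((indepSets L k).sigma fun S =>
      univ.filter fun x => x ∉ S ∧ Indep L (insert x S)).card = (indepSets L k).card * e := by
    rw [card_sigma]
    exact sum_const_nat fun S hS => he S (mem_indepSets.1 hS).1 (mem_indepSets.1 hS).2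
  rw [mul_comm, ← h1, mul_comm e, ← h2]
  refine card_bij' (fun p _ => ⟨p.1.erase p.2, p.2⟩) (fun p _ => ⟨insert p.2 p.1, p.2⟩) ?_ ?_ ?_ ?_
  · rintro ⟨S, x⟩ hp
    rw [mem_sigma, mem_indepSets] at hp
    simp only [mem_sigma, mem_indepSets, mem_filter, mem_univ, true_and]
    exact ⟨⟨by rw [card_erase_of_mem hp.2]; omega, hp.1.2.mono (erase_subset _ _)⟩,
      notMem_erase _ _, by rw [insert_erase hp.2]; exact hp.1.2⟩
  · rintro ⟨S, x⟩ hp
    simp only [mem_sigma, mem_indepSets, mem_filter, mem_univ, true_and] at hp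
    simp only [mem_sigma, mem_indepSets]
    exact ⟨⟨by rw [card_insert_of_notMem hp.2.1, hp.1.1], hp.2.2⟩, mem_insert_self _ _⟩
  · rintro ⟨S, x⟩ hp
    rw [mem_sigma] at hp
    simp [insert_erase hp.2]
  · rintro ⟨S, x⟩ hp
    simp only [mem_sigma, mem_filter] at hp
    simp [erase_insert hp.2.2.1]

theorem IsPlane.card_indep_four' (h : IsPlane L) : (indepSets L 4).card = 2520 := by
  classical
  have small : ∀ S : Finset α, S.card ≤ 2 → Indep L S :=
    fun S hS l _ => (card_le_card inter_subset_right).trans hS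
  have c0 : (indepSets L 0).card = 1 := by
    have : indepSets L 0 = {∅} := by
      ext S
      simp only [mem_indepSets, card_eq_zero, mem_singleton]
      exact ⟨fun hh => hh.1, fun hh => ⟨hh, small S (by simp [hh])⟩⟩
    rw [this, card_singleton]
  have c1 := card_indepSets_succ (L := L) (k := 0) (e := 21) fun S hS _ _ => by
    rw [card_eq_zero] at hS
    subst hS
    rw [filter_true_of_mem, card_univ, h.card_pts]
    exact fun x _ => ⟨by simp, small _ (by simp)⟩
  have c2 := card_indepSets_succ (L := L) (k := 1) (e := 20) fun S hS _ _ => by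
    obtain ⟨a, rfl⟩ := card_eq_one.1 hS
    have : (univ.filter fun x => x ∉ ({a} : Finset α) ∧ Indep L (insert x {a})) = univ.erase a := by
      ext x
      simp only [mem_filter, mem_univ, true_and, mem_singleton, mem_erase, and_true]
      exact ⟨fun hh => hh.1, fun hh => ⟨hh, small _ card_le_two⟩⟩
    rw [this, card_erase_of_mem (mem_univ _), card_univ, h.card_pts]
  -- a point extends an independent set unless it lies on a secant
  have ext' : ∀ S : Finset α, Indep L S → ∀ x, x ∉ S →
      (Indep L (insert x S) ↔ ∀ l ∈ L, x ∈ l → (l ∩ S).card ≤ 1) := by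
    intro S hS x hx
    constructor
    · intro hh l hl hxl
      have := hh l hl
      rw [inter_insert_of_mem hxl,
        card_insert_of_notMem (fun e => hx (mem_inter.1 e).2)] at this
      omega
    · intro hh l hl
      by_cases hxl : x ∈ l
      · rw [inter_insert_of_mem hxl]
        exact (card_insert_le _ _).trans (by have := hh l hl hxl; omega)
      · rw [inter_insert_of_notMem hxl]; exact hS l hl
  have c3 := card_indepSets_succ (L := L) (k := 2) (e := 16) fun S hS hSI _ => by
    obtain ⟨a, b, hab, rfl⟩ := card_eq_two.1 hS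
    obtain ⟨l, hl, hal, hbl⟩ := h.exists_line hab
    have : (univ.filter fun x => x ∉ ({a, b} : Finset α) ∧ Indep L (insert x {a, b})) = univ \ l := by
      ext x
      simp only [mem_filter, mem_univ, true_and, mem_sdiff]
      constructor
      · rintro ⟨hx, hh⟩ hxl
        have := (ext' _ hSI x hx).1 hh l hl hxl
        rw [inter_eq_right.2 (by simp [insert_subset_iff, hal, hbl]), card_pair hab] at this
        omega
      · intro hxl
        have hx : x ∉ ({a, b} : Finset α) := by
          simp only [mem_insert, mem_singleton]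
          rintro (rfl | rfl) <;> exact hxl (by assumption)
        refine ⟨hx, (ext' _ hSI x hx).2 fun m hm hxm => ?_⟩
        by_contra hgt
        push Not at hgt
        have hsub : ({a, b} : Finset α) ⊆ m := by
          have h2 : m ∩ {a, b} = {a, b} :=
            eq_of_subset_of_card_le inter_subset_right (by rw [card_pair hab]; omega)
          exact h2 ▸ inter_subset_left
        exact hxl (h.line_eq hab hm hl (hsub (by simp)) (hsub (by simp)) hal hbl ▸ hxm)
    rw [this, card_sdiff_of_subset (subset_univ _), card_univ, h.card_pts, h.steiner.1 _ hl]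
  have c4 := card_indepSets_succ (L := L) (k := 3) (e := 9) fun S hS hSI _ => by
    obtain ⟨a, b, c, hab, hac, hbc, rfl⟩ := card_eq_three.1 hS
    obtain ⟨l₁, hl₁, ha1, hb1⟩ := h.exists_line hab
    obtain ⟨l₂, hl₂, ha2, hc2⟩ := h.exists_line hac
    obtain ⟨l₃, hl₃, hb3, hc3⟩ := h.exists_line hbc
    have nc1 : c ∉ l₁ := fun e => by
      rcases hSI.pair hl₁ (a := a) (b := b) (c := c) (by simp) (by simp) (by simp) hab ha1 hb1 e
        with e' | e' <;> [exact hac e'.symm; exact hbc e'.symm]
    have nb2 : b ∉ l₂ := fun e => by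
      rcases hSI.pair hl₂ (a := a) (b := c) (c := b) (by simp) (by simp) (by simp) hac ha2 hc2 e
        with e' | e' <;> [exact hab e'.symm; exact hbc e']
    have na3 : a ∉ l₃ := fun e => by
      rcases hSI.pair hl₃ (a := b) (b := c) (c := a) (by simp) (by simp) (by simp) hbc hb3 hc3 e
        with e' | e' <;> [exact hab e'; exact hac e']
    have d12 : l₁ ≠ l₂ := fun e => nc1 (e ▸ hc2)
    have d13 : l₁ ≠ l₃ := fun e => nc1 (e ▸ hc3)
    have d23 : l₂ ≠ l₃ := fun e => nb2 (e ▸ hb3)
    have hU : (l₁ ∪ l₂ ∪ l₃).card = 12 := by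
      have e1 := card_union_add_card_inter l₁ l₂
      have e2 := card_union_add_card_inter (l₁ ∪ l₂) l₃
      have i12 := h.inter_card hl₁ hl₂ d12
      have i13 := h.inter_card hl₁ hl₃ d13
      have i23 := h.inter_card hl₂ hl₃ d23
      have hd : Disjoint (l₁ ∩ l₃) (l₂ ∩ l₃) := by
        rw [disjoint_left]
        intro x hx hx'
        rw [mem_inter] at hx hx'
        -- the common point of all three lines would be a, b and c at once
        obtain rfl : x = a := by
          by_contra hne
          exact d12 (h.line_eq hne hl₁ hl₂ hx.1 ha1 hx'.1 ha2)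
        exact na3 hx.2
      have i3 : ((l₁ ∪ l₂) ∩ l₃).card = 2 := by
        rw [union_inter_distrib_right, card_union_of_disjoint hd, i13, i23]
      rw [i12, h.steiner.1 _ hl₁, h.steiner.1 _ hl₂] at e1
      rw [i3, h.steiner.1 _ hl₃] at e2
      omega
    have : (univ.filter fun x => x ∉ ({a, b, c} : Finset α) ∧ Indep L (insert x {a, b, c})) =
        univ \ (l₁ ∪ l₂ ∪ l₃) := by
      ext x
      simp only [mem_filter, mem_univ, true_and, mem_sdiff, mem_union, not_or]
      constructor
      · rintro ⟨hx, hh⟩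
        have key : ∀ l ∈ L, ∀ p ∈ ({a, b, c} : Finset α), ∀ q ∈ ({a, b, c} : Finset α), p ≠ q →
            p ∈ l → q ∈ l → x ∉ l := by
          intro l hl p hp q hq hpq hpl hql hxl
          have h1 := (ext' _ hSI x hx).1 hh l hl hxl
          have : ({p, q} : Finset α) ⊆ l ∩ {a, b, c} := by
            simp only [insert_subset_iff, singleton_subset_iff, mem_inter]
            exact ⟨⟨hpl, hp⟩, hql, hq⟩
          have := card_le_card this
          rw [card_pair hpq] at this
          omega
        exact ⟨⟨key l₁ hl₁ a (by simp) b (by simp) hab ha1 hb1,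
          key l₂ hl₂ a (by simp) c (by simp) hac ha2 hc2⟩,
          key l₃ hl₃ b (by simp) c (by simp) hbc hb3 hc3⟩
      · rintro ⟨⟨h1, h2⟩, h3⟩
        have hx : x ∉ ({a, b, c} : Finset α) := by
          simp only [mem_insert, mem_singleton]
          rintro (rfl | rfl | rfl) <;> simp_all
        refine ⟨hx, (ext' _ hSI x hx).2 fun m hm hxm => ?_⟩
        by_contra hgt
        push Not at hgt
        obtain ⟨p, hp, q, hq, hpq⟩ := one_lt_card.1 hgt
        simp only [mem_inter, mem_insert, mem_singleton] at hp hq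
        obtain ⟨hpm, rfl | rfl | rfl⟩ := hp <;> obtain ⟨hqm, rfl | rfl | rfl⟩ := hq
        · exact hpq rfl
        · exact h1 (h.line_eq hab hm hl₁ hpm hqm ha1 hb1 ▸ hxm)
        · exact h2 (h.line_eq hac hm hl₂ hpm hqm ha2 hc2 ▸ hxm)
        · exact h1 (h.line_eq hab hm hl₁ hqm hpm ha1 hb1 ▸ hxm)
        · exact hpq rfl
        · exact h3 (h.line_eq hbc hm hl₃ hpm hqm hb3 hc3 ▸ hxm)
        · exact h2 (h.line_eq hac hm hl₂ hqm hpm ha2 hc2 ▸ hxm)
        · exact h3 (h.line_eq hbc hm hl₃ hqm hpm hb3 hc3 ▸ hxm)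
        · exact hpq rfl
    rw [this, card_sdiff_of_subset (subset_univ _), card_univ, h.card_pts, hU]
  simp only [zero_add, one_mul, mul_one, c0] at c1
  norm_num at c2 c3 c4
  omega

theorem IsPlane.card_ovals (h : IsPlane L) : (indepSets L 6).card = 168 := by
  classical
  have h4 := h.card_indep_four'
  have hcount : (indepSets L 4).card =
      ∑ H ∈ indepSets L 6, (H.powersetCard 4).card := by
    rw [← card_biUnion]
    · congr 1
      ext S
      simp only [mem_biUnion, mem_powersetCard, mem_indepSets]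
      constructor
      · rintro ⟨hS, hSI⟩
        obtain ⟨H, ⟨hH, hSH⟩, -⟩ := h.existsUnique_oval hS hSI
        exact ⟨H, hH, hSH, hS⟩
      · rintro ⟨H, ⟨-, hHI⟩, hSH, hS⟩
        exact ⟨hS, hHI.mono hSH⟩
    · intro H hH H' hH' hne
      simp only [mem_coe, mem_indepSets] at hH hH'
      simp only [Function.onFun, disjoint_left, mem_powersetCard]
      rintro S ⟨hSH, hS⟩ ⟨hSH', -⟩
      exact hne ((h.existsUnique_oval hS (hH.2.mono hSH)).unique ⟨hH, hSH⟩ ⟨hH', hSH'⟩)
  rw [sum_const_nat (m := 15), h4] at hcount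
  · omega
  · intro H hH
    rw [card_powersetCard, (mem_indepSets.1 hH).1]; decide

theorem IsPlane.exists_oval (h : IsPlane L) : ∃ H : Finset α, H.card = 6 ∧ Indep L H := by
  have := h.card_ovals
  obtain ⟨H, hH⟩ : (indepSets L 6).Nonempty := card_pos.1 (by omega)
  exact ⟨H, mem_indepSets.1 hH⟩

end Cfsg.Agent.Lib.PlaneFour
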